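import Mathlib

/-!
Derivations detecting `p`-th powers in a field; linear independence of `p`-th powers versus
geometric reducedness and formal smoothness of field extensions.
-/

set_option autoImplicit false
universe u v w

namespace Groth.Agent.FieldExtLib

open Polynomial in
/-- If `a` lies outside a subfield `M₀` containing all `p`-th powers, some derivation kills `M₀`
and is `1` at `a`. -/
theorem exists_derivation_of_notMem {k : Type u} [Field k] (p : ℕ) [Fact p.Prime] [CharP k p] {a : k}
    (M₀ : Subfield k) (hpow₀ : ∀ b : k, b ^ p ∈ M₀) (ha : a ∉ M₀) :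
    ∃ δ : Derivation ℤ k k, δ a = 1 ∧ ∀ c ∈ M₀, δ c = 0 := by
  classical
  have hp : p.Prime := Fact.out
  let S : Set (Subfield k) := {M | (∀ b : k, b ^ p ∈ M) ∧ a ∉ M}
  have hS₀ : M₀ ∈ S := ⟨hpow₀, ha⟩
  obtain ⟨M, hM₀M, hM⟩ := zorn_le_nonempty₀ S (fun c hcS hc y hy => by
    refine ⟨sSup c, ⟨fun b => ?_, fun h => ?_⟩, fun z hz => le_sSup hz⟩
    · exact le_sSup hy ((hcS hy).1 b)
    · obtain ⟨z, hz, haz⟩ := (Subfield.mem_sSup_of_directedOn ⟨y, hy⟩ hc.directedOn).1 h
      exact (hcS hz).2 haz) _ hS₀
  obtain ⟨⟨hMpow, haM⟩, hMmax⟩ := hM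
  have hint : ∀ b : k, IsIntegral M b := fun b =>
    ⟨X ^ p - C (⟨b ^ p, hMpow b⟩ : M), monic_X_pow_sub_C _ hp.ne_zero, by
      simp only [eval₂_sub, eval₂_X_pow, eval₂_C]; exact sub_self _⟩
  have hirr : ∀ b : k, b ∉ M → minpoly M b = X ^ p - C (⟨b ^ p, hMpow b⟩ : M) := by
    intro b hb
    refine (minpoly.eq_of_irreducible_of_monic ?_ ?_ (monic_X_pow_sub_C _ hp.ne_zero)).symm
    · refine X_pow_sub_C_irreducible_of_prime hp fun c hc => hb ?_
      have h1 : (c : k) ^ p = b ^ p := by simpa using congrArg Subtype.val hc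
      rw [← frobenius_inj k p (by simpa [frobenius_def] using h1 : frobenius k p c = frobenius k p b)]
      exact c.2
    · simp only [map_sub, map_pow, aeval_X, aeval_C]; exact sub_self _
  have hgen : ∀ b : k, b ∈ IntermediateField.adjoin M {a} := by
    intro b
    by_cases hb : b ∈ M
    · exact (IntermediateField.adjoin M {a}).algebraMap_mem ⟨b, hb⟩
    have hab : a ∈ IntermediateField.adjoin M {b} := by
      by_contra h
      have hle : M ≤ (IntermediateField.adjoin M {b}).toSubfield := fun z hz =>
        (IntermediateField.adjoin M {b}).algebraMap_mem ⟨z, hz⟩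
      have h1 := hMmax (y := (IntermediateField.adjoin M {b}).toSubfield)
        ⟨fun z => hle (hMpow z), h⟩ hle
      exact hb (h1 (IntermediateField.subset_adjoin M {b} rfl))
    have hle : IntermediateField.adjoin M {a} ≤ IntermediateField.adjoin M {b} :=
      IntermediateField.adjoin_simple_le_iff.2 hab
    haveI := IntermediateField.adjoin.finiteDimensional (hint b)
    have heq : IntermediateField.adjoin M {a} = IntermediateField.adjoin M {b} := by
      refine IntermediateField.eq_of_le_of_finrank_eq hle ?_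
      rw [IntermediateField.adjoin.finrank (hint a), IntermediateField.adjoin.finrank (hint b),
        hirr a haM, hirr b hb, natDegree_X_pow_sub_C, natDegree_X_pow_sub_C]
    rw [heq]
    exact IntermediateField.subset_adjoin M {b} rfl
  have hsurj : ∀ y : k, ∃ g : M[X], aeval a g = y := fun y => by
    have h := hgen y
    rw [← IntermediateField.mem_toSubalgebra,
      IntermediateField.adjoin_simple_toSubalgebra_of_isAlgebraic (hint a).isAlgebraic,
      Algebra.adjoin_singleton_eq_range_aeval] at h
    exact h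
  choose g hg using hsurj
  have hwd : ∀ q r : M[X], aeval a q = aeval a r → aeval a (derivative q) = aeval a (derivative r) := by
    intro q r h
    obtain ⟨s, hs⟩ := minpoly.dvd M a (p := q - r) (by rw [map_sub, h, sub_self])
    have h0 : aeval a (derivative (minpoly M a)) = 0 := by
      rw [hirr a haM, derivative_sub, derivative_C, sub_zero, derivative_X_pow, map_mul, aeval_C, map_natCast,
        CharP.cast_eq_zero, zero_mul]
    have h1 : aeval a (derivative (q - r)) = 0 := by
      rw [hs, derivative_mul, map_add, map_mul, map_mul, h0, minpoly.aeval, zero_mul, zero_mul, add_zero]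
    rwa [derivative_sub, map_sub, sub_eq_zero] at h1
  let d : k →ₗ[ℤ] k :=
    (AddMonoidHom.mk' (fun y => aeval a (derivative (g y))) fun x y => by
      rw [← map_add, ← derivative_add]
      exact hwd _ _ (by rw [hg, map_add, hg, hg])).toIntLinearMap
  refine ⟨Derivation.mk' d fun x y => ?_, ?_, fun c hc => ?_⟩
  · show aeval a (derivative (g (x * y))) =
      x * aeval a (derivative (g y)) + y * aeval a (derivative (g x))
    rw [hwd (g (x * y)) (g x * g y) (by rw [hg, map_mul, hg, hg]), derivative_mul, map_add, map_mul,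
      map_mul, hg, hg]
    ring
  · show aeval a (derivative (g a)) = 1
    rw [hwd (g a) X (by rw [hg, aeval_X])]
    simp
  · show aeval a (derivative (g c)) = 0
    rw [hwd (g c) (C ⟨c, hM₀M hc⟩) (by rw [hg, aeval_C]; rfl)]
    simp

/-- In characteristic `p`, an element which is not a `p`-th power is not killed by all derivations. -/
theorem exists_derivation_ne_zero {k : Type u} [Field k] (p : ℕ) [Fact p.Prime] [CharP k p] {a : k}
    (ha : ∀ b : k, b ^ p ≠ a) : ∃ δ : Derivation ℤ k k, δ a ≠ 0 := by
  obtain ⟨δ, hδ, -⟩ := exists_derivation_of_notMem p (a := a) (frobenius k p).fieldRange (fun b => ⟨b, rfl⟩)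
    (fun ⟨b, hb⟩ => ha b (by simpa [frobenius_def] using hb))
  exact ⟨δ, by rw [hδ]; exact one_ne_zero⟩

/-- `p`-th powers of linearly independent elements stay linearly independent. -/
def PowIndep (k : Type u) (A : Type v) [Field k] [CommRing A] [Algebra k A] (p : ℕ) : Prop :=
  ∀ s : Finset A, LinearIndepOn k _root_.id (s : Set A) → LinearIndepOn k (· ^ p) (s : Set A)

theorem powIndep_of_formallySmooth {k : Type u} {K : Type v} [Field k] [Field K] [Algebra k K]
    [Algebra.FormallySmooth k K] (p : ℕ) [Fact p.Prime] [CharP k p] : PowIndep k K p := by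
  classical
  have hp : p.Prime := Fact.out
  haveI : CharP K p := charP_of_injective_algebraMap (algebraMap k K).injective p
  intro s hs
  rw [linearIndepOn_finset_iff] at hs ⊢
  suffices h : ∀ n : ℕ, ∀ t ⊆ s, t.card = n → ∀ c : K → k, (∑ i ∈ t, c i • i ^ p) = 0 → ∀ i ∈ t, c i = 0 from
    fun c hc => h _ s subset_rfl rfl c hc
  intro n
  induction n using Nat.strong_induction_on with
  | _ n ih =>
  intro t hts htn c hc i hi
  by_contra hne
  let c' : K → k := fun j => (c i)⁻¹ * c j
  have hc' : ∑ j ∈ t, c' j • j ^ p = 0 := by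
    have : ∑ j ∈ t, c' j • j ^ p = (c i)⁻¹ • ∑ j ∈ t, c j • j ^ p := by
      rw [Finset.smul_sum]; exact Finset.sum_congr rfl fun j _ => mul_smul _ _ _
    rw [this, hc, smul_zero]
  have hc'i : c' i = 1 := inv_mul_cancel₀ hne
  have hroot : ∀ j ∈ t, ∃ d : k, d ^ p = c' j := by
    intro j hj
    rcases eq_or_ne j i with rfl | hji
    · exact ⟨1, by rw [one_pow, hc'i]⟩
    by_contra hnp
    push Not at hnp
    obtain ⟨δ, hδ⟩ := exists_derivation_ne_zero p hnp
    apply hδ
    -- extend `δ` to an infinitesimal deformation of `K`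
    letI : Algebra k (TrivSqZeroExt K K) :=
      RingHom.toAlgebra
        { toFun := fun c => TrivSqZeroExt.inl (algebraMap k K c) + TrivSqZeroExt.inr (algebraMap k K (δ c))
          map_one' := TrivSqZeroExt.ext (by simp) (by simp)
          map_mul' := fun x y => TrivSqZeroExt.ext (by simp) (by
            simp only [TrivSqZeroExt.snd_mul, TrivSqZeroExt.fst_add, TrivSqZeroExt.fst_inl, TrivSqZeroExt.fst_inr,
              TrivSqZeroExt.snd_add, TrivSqZeroExt.snd_inl, TrivSqZeroExt.snd_inr, Derivation.leibniz, smul_eq_mul,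
              op_smul_eq_smul, map_add, map_mul, add_zero, zero_add])
          map_zero' := TrivSqZeroExt.ext (by simp) (by simp)
          map_add' := fun x y => TrivSqZeroExt.ext (by simp) (by
            simp only [TrivSqZeroExt.snd_add, TrivSqZeroExt.snd_inl, TrivSqZeroExt.snd_inr, map_add, zero_add]) }
    let π : TrivSqZeroExt K K →ₐ[k] K :=
      { (TrivSqZeroExt.fstHom K K K).toRingHom with
        commutes' := fun c => by
          show (TrivSqZeroExt.inl (algebraMap k K c) + TrivSqZeroExt.inr (algebraMap k K (δ c))).fst = _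
          simp }
    have hπ : ∀ z, π z = z.fst := fun z => rfl
    have hsurj : Function.Surjective π := fun z => ⟨TrivSqZeroExt.inl z, rfl⟩
    have hker : IsNilpotent (RingHom.ker π.toRingHom) := by
      refine ⟨2, (pow_two (RingHom.ker π.toRingHom)).trans ?_⟩
      rw [Ideal.zero_eq_bot, eq_bot_iff, Ideal.mul_le]
      intro r hr z hz
      have h1 : r.fst = 0 := hr
      have h2 : z.fst = 0 := hz
      rw [Submodule.mem_bot]
      exact TrivSqZeroExt.ext (by simp [h1]) (by simp [h1, h2])
    let w := Algebra.FormallySmooth.liftOfSurjective (AlgHom.id k K) π hsurj hker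
    have hw : ∀ z, (w z).fst = z := fun z =>
      Algebra.FormallySmooth.liftOfSurjective_apply (AlgHom.id k K) π hsurj hker z
    have hwpow : ∀ z, (w (z ^ p)).snd = 0 := fun z => by
      rw [map_pow, TrivSqZeroExt.snd_pow]
      simp [CharP.cast_eq_zero]
    have h1 : ∑ l ∈ t, δ (c' l) • l ^ p = 0 := by
      have h2 := congrArg (fun z => (w z).snd) hc'
      simp only [map_zero, TrivSqZeroExt.snd_zero, map_sum, TrivSqZeroExt.snd_sum] at h2
      refine Eq.trans (Finset.sum_congr rfl fun l _ => ?_) h2
      rw [Algebra.smul_def, Algebra.smul_def, map_mul w, w.commutes, TrivSqZeroExt.snd_mul, hwpow, hw]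
      simp [RingHom.algebraMap_toAlgebra]
      exact (Algebra.smul_def (R := k) (A := K) (δ (c' l)) (l ^ p)).symm
    rw [← Finset.add_sum_erase _ _ hi, hc'i, Derivation.map_one_eq_zero, zero_smul, zero_add] at h1
    exact ih (t.erase i).card (htn ▸ Finset.card_erase_lt_of_mem hi) (t.erase i)
      ((t.erase_subset i).trans hts) rfl (fun l => δ (c' l)) h1 j (Finset.mem_erase.2 ⟨hji, hj⟩)
  choose! d hd using hroot
  have h1 : (∑ j ∈ t, d j • j) ^ p = 0 := by
    rw [sum_pow_char]
    refine Eq.trans (Finset.sum_congr rfl fun j hj => ?_) hc'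
    rw [smul_pow, hd j hj]
  have h2 : ∑ j ∈ s, (if j ∈ t then d j else 0) • j = 0 := by
    rw [← Finset.sum_subset hts (fun j _ hj => by rw [if_neg hj, zero_smul])]
    refine Eq.trans (Finset.sum_congr rfl fun j hj => by rw [if_pos hj]) ?_
    exact pow_eq_zero_iff hp.ne_zero |>.1 h1
  have h3 := hs _ h2 i (hts hi)
  rw [if_pos hi] at h3
  have := hd i hi
  rw [h3, zero_pow hp.ne_zero, hc'i] at this
  exact zero_ne_one this

end Groth.Agent.FieldExtLib
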