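import Mathlib
import Groth.Agent.FieldExtLib.Frobenius

/-!
Formally smooth field extensions are exactly the geometrically reduced ones.
-/

set_option autoImplicit false
universe u v w
open TensorProduct

namespace Groth.Agent.FieldExtLib

theorem eq_zero_of_sum_tmul {k : Type u} {M : Type v} {N : Type w} [Field k] [AddCommGroup M] [Module k M]
    [AddCommGroup N] [Module k N] {ι : Type*} {t : Finset ι} {f : ι → N} (hf : LinearIndepOn k f (t : Set ι))
    (a : ι → M) (h : ∑ i ∈ t, a i ⊗ₜ[k] f i = 0) : ∀ i ∈ t, a i = 0 := by
  classical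
  intro i hi
  obtain ⟨φ, hφ⟩ := LinearMap.exists_leftInverse_of_injective (Finsupp.linearCombination k fun j : t => f j)
    (LinearMap.ker_eq_bot.2 (linearIndependent_iff_injective_finsuppLinearCombination.1 hf))
  let ev : N →ₗ[k] k := Finsupp.lapply ⟨i, hi⟩ ∘ₗ φ
  have hev : ∀ j (hj : j ∈ t), ev (f j) = if j = i then 1 else 0 := by
    intro j hj
    have h1 := LinearMap.congr_fun hφ (Finsupp.single ⟨j, hj⟩ 1)
    simp only [LinearMap.comp_apply, Finsupp.linearCombination_single, one_smul, LinearMap.id_apply] at h1
    simp only [ev, LinearMap.comp_apply, Finsupp.lapply_apply, h1, Finsupp.single_apply, Subtype.mk.injEq]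
  have h1 := congrArg ((TensorProduct.rid k M).toLinearMap ∘ₗ ev.lTensor M) h
  rw [map_zero, map_sum, Finset.sum_eq_single i] at h1
  · simpa [hev i hi] using h1
  · intro j hj hji; simp [hev j hj, hji]
  · exact fun hn => absurd hi hn

theorem isGeometricallyReduced_iff_powIndep {k : Type u} {A : Type v} [Field k] [CommRing A] [Algebra k A]
    [IsReduced A] (p : ℕ) [Fact p.Prime] [CharP k p] :
    Algebra.IsGeometricallyReduced k A ↔ PowIndep k A p := by
  classical
  have hp : p.Prime := Fact.out
  haveI : CharP (AlgebraicClosure k) p := charP_of_injective_algebraMap (algebraMap k _).injective p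
  rw [Algebra.isGeometricallyReduced_field_iff]
  rcases subsingleton_or_nontrivial A with hA | hA
  · refine ⟨fun _ s hs => ?_, fun _ => ?_⟩
    · have : s = ∅ := Finset.eq_empty_of_forall_notMem fun x hx =>
        hs.ne_zero (Finset.mem_coe.2 hx) (Subsingleton.elim _ _)
      simp [this]
    · suffices ∀ x : AlgebraicClosure k ⊗[k] A, x = 0 from ⟨fun x _ => this x⟩
      intro x
      induction x using TensorProduct.induction_on with
      | zero => rfl
      | tmul a b => rw [Subsingleton.elim b 0, TensorProduct.tmul_zero]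
      | add x y hx hy => rw [hx, hy, add_zero]
  haveI : CharP (AlgebraicClosure k ⊗[k] A) p := charP_of_injective_algebraMap
    ((algebraMap k (AlgebraicClosure k ⊗[k] A)).injective) p
  constructor
  · intro h s hs
    rw [linearIndepOn_finset_iff]
    intro c hc i hi
    choose d hd using fun x : k => IsAlgClosed.exists_pow_nat_eq (algebraMap k (AlgebraicClosure k) x) hp.pos
    have hz : (∑ j ∈ s, d (c j) ⊗ₜ[k] j) ^ p = 0 := by
      rw [sum_pow_char]
      have : ∀ j ∈ s, (d (c j) ⊗ₜ[k] j) ^ p = (1 : AlgebraicClosure k) ⊗ₜ[k] (c j • j ^ p) := fun j _ => by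
        rw [Algebra.TensorProduct.tmul_pow, hd, ← TensorProduct.smul_tmul, Algebra.smul_def, mul_one]
      rw [Finset.sum_congr rfl this, ← TensorProduct.tmul_sum, hc, TensorProduct.tmul_zero]
    have h1 := eq_zero_of_sum_tmul (f := fun j : A => j) hs (fun j => d (c j)) (h.eq_zero _ ⟨p, hz⟩) i hi
    exact (algebraMap k (AlgebraicClosure k)).injective (by rw [map_zero, ← hd, h1, zero_pow hp.ne_zero])
  · intro h
    rw [isReduced_iff_pow_one_lt p hp.one_lt]
    intro z hz
    let b := Module.Basis.ofVectorSpace k A
    let c := (Algebra.TensorProduct.basis (AlgebraicClosure k) b).repr z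
    have hzc : z = ∑ i ∈ c.support, c i ⊗ₜ[k] b i := by
      conv_lhs => rw [← (Algebra.TensorProduct.basis (AlgebraicClosure k) b).linearCombination_repr z]
      refine Finset.sum_congr rfl fun i _ => ?_
      show c i • (Algebra.TensorProduct.basis (AlgebraicClosure k) b) i = _
      rw [Algebra.TensorProduct.basis_apply, TensorProduct.smul_tmul', smul_eq_mul, mul_one]
    have h0 : LinearIndepOn k (fun i => (b i) ^ p) (c.support : Set _) := by
      have h1 : LinearIndepOn k _root_.id ((c.support.image b : Finset A) : Set A) := by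
        rw [Finset.coe_image]
        exact (b.linearIndependent.linearIndepOn_id).mono (Set.image_subset_range _ _)
      have h2 := h _ h1
      rw [Finset.coe_image] at h2
      exact h2.comp_of_image b.injective.injOn
    have h1 : ∑ i ∈ c.support, (c i ^ p) ⊗ₜ[k] (b i ^ p) = 0 := by
      rw [hzc, sum_pow_char] at hz
      refine Eq.trans (Finset.sum_congr rfl fun i _ => ?_) hz
      rw [Algebra.TensorProduct.tmul_pow]
    rw [hzc]
    refine Finset.sum_eq_zero fun i hi => ?_
    rw [(pow_eq_zero_iff hp.ne_zero).1 (eq_zero_of_sum_tmul h0 (fun i => c i ^ p) h1 i hi), TensorProduct.zero_tmul]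

theorem formallySmooth_of_powIndep {k : Type u} {K : Type v} [Field k] [Field K] [Algebra k K]
    [Algebra.EssFiniteType k K] (p : ℕ) [Fact p.Prime] [CharP k p] (h : PowIndep k K p) :
    Algebra.FormallySmooth k K := by
  haveI : ExpChar k p := .prime Fact.out
  obtain ⟨s, hs, H⟩ :=
    exists_isTranscendenceBasis_and_isSeparable_of_linearIndepOn_pow_of_essFiniteType
      (k := k) (K := K) p Fact.out h
  have : Algebra.IsSeparable (↥(IntermediateField.adjoin k (Set.range ((↑) : s → K)))) K := by
    convert! H <;> simp
  exact .of_algebraicIndependent_of_isSeparable hs.1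

theorem PowIndep.of_injective {k : Type u} {A : Type v} {B : Type w} [Field k] [CommRing A] [CommRing B]
    [Algebra k A] [Algebra k B] {p : ℕ} (f : A →ₐ[k] B) (hf : Function.Injective f) (h : PowIndep k B p) :
    PowIndep k A p := by
  classical
  intro s hs
  have h1 : LinearIndepOn k _root_.id ((s.image f : Finset B) : Set B) := by
    rw [Finset.coe_image]
    exact (hs.map_injOn f.toLinearMap hf.injOn).id_image
  have h2 := h _ h1
  rw [Finset.coe_image] at h2
  have h3 : LinearIndepOn k (f.toLinearMap ∘ fun x => x ^ p) (s : Set A) := by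
    refine (h2.comp_of_image hf.injOn).congr fun x _ => ?_
    exact (map_pow f x p).symm
  exact LinearIndependent.of_comp f.toLinearMap h3

open MvPolynomial in
theorem formallySmooth_of_forall_fg {k : Type u} {K : Type v} [Field k] [Field K] [Algebra k K]
    (h : ∀ K₀ : IntermediateField k K, K₀.FG → Algebra.FormallySmooth k K₀) : Algebra.FormallySmooth k K := by
  classical
  refine ⟨inferInstance, ?_⟩
  rw [Algebra.Extension.subsingleton_h1Cotangent]
  rw [← LinearMap.ker_eq_bot, Submodule.eq_bot_iff]
  intro x hx
  obtain ⟨i, rfl⟩ := Algebra.Extension.Cotangent.mk_surjective x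
  let P := Algebra.Generators.self k K
  have hd : ∀ s : K, aeval P.val (pderiv s (i.1 : MvPolynomial K k)) = 0 := by
    intro s
    have h1 : (P.cotangentSpaceBasis.repr (P.toExtension.cotangentComplex (Algebra.Extension.Cotangent.mk i))) s = 0 := by
      rw [show P.toExtension.cotangentComplex (Algebra.Extension.Cotangent.mk i) = 0 from LinearMap.mem_ker.1 hx, map_zero]; rfl
    rw [Algebra.Extension.cotangentComplex_mk] at h1
    erw [P.cotangentSpaceBasis_repr_one_tmul] at h1
    exact h1
  let K₀ := IntermediateField.adjoin k ((i.1 : MvPolynomial K k).vars : Set K)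
  haveI := h K₀ (IntermediateField.fg_adjoin_finset _)
  obtain ⟨i₀, hi₀⟩ := exists_rename_eq_of_vars_subset_range (i.1 : MvPolynomial K k) ((↑) : K₀ → K)
    Subtype.val_injective (fun v hv => ⟨⟨v, IntermediateField.subset_adjoin k _ hv⟩, rfl⟩)
  let P₀ := Algebra.Generators.self k K₀
  have hev : ∀ q : MvPolynomial K₀ k, ((aeval P₀.val q : K₀) : K) = aeval P.val (rename ((↑) : K₀ → K) q) := by
    intro q
    rw [aeval_rename]
    exact (comp_aeval_apply P₀.val K₀.val q)
  have hi₀ker : i₀ ∈ P₀.toExtension.ker := by
    show i₀ ∈ P₀.ker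
    rw [Algebra.Generators.ker_eq_ker_aeval_val, RingHom.mem_ker]
    refine Subtype.val_injective ?_
    show ((aeval P₀.val i₀ : K₀) : K) = 0
    rw [hev, hi₀]
    have h1 : i.1 ∈ P.ker := i.2
    rw [Algebra.Generators.ker_eq_ker_aeval_val] at h1
    exact h1
  have hz : P₀.toExtension.cotangentComplex (Algebra.Extension.Cotangent.mk ⟨i₀, hi₀ker⟩) = 0 := by
    refine P₀.cotangentSpaceBasis.repr.injective (Finsupp.ext fun s => ?_)
    rw [Algebra.Extension.cotangentComplex_mk, map_zero]
    erw [P₀.cotangentSpaceBasis_repr_one_tmul]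
    refine Subtype.val_injective ?_
    show ((aeval P₀.val (pderiv s i₀) : K₀) : K) = 0
    rw [hev, ← pderiv_rename Subtype.val_injective, hi₀]
    exact hd s
  have h0 := (Algebra.Extension.subsingleton_h1Cotangent _).1
    (Algebra.FormallySmooth.subsingleton_h1Cotangent (R := k) (A := K₀))
  have h2 := h0 (hz.trans (map_zero _).symm)
  rw [Algebra.Extension.Cotangent.mk_eq_zero_iff] at h2
  rw [Algebra.Extension.Cotangent.mk_eq_zero_iff]
  rw [← hi₀]
  refine (Ideal.pow_right_mono (I := P₀.toExtension.ker.map (rename ((↑) : K₀ → K)).toRingHom) ?_ 2) ?_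
  · rw [Ideal.map_le_iff_le_comap]
    intro q hq
    show rename ((↑) : K₀ → K) q ∈ P.ker
    have h1 : q ∈ P₀.ker := hq
    rw [Algebra.Generators.ker_eq_ker_aeval_val] at h1 ⊢
    replace h1 : aeval P₀.val q = 0 := h1
    show aeval P.val (rename ((↑) : K₀ → K) q) = 0
    rw [← hev, h1]; rfl
  · rw [← Ideal.map_pow]; exact Ideal.mem_map_of_mem _ h2

theorem formallySmooth_of_isGeometricallyReduced {k : Type u} {K : Type v} [Field k] [Field K] [Algebra k K]
    (h : Algebra.IsGeometricallyReduced k K) : Algebra.FormallySmooth k K := by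
  refine formallySmooth_of_forall_fg fun K₀ hK₀ => ?_
  haveI : Algebra.EssFiniteType k K₀ := IntermediateField.essFiniteType_iff.2 hK₀
  obtain _ | ⟨p, hp, hpk⟩ := CharP.exists' k
  · infer_instance
  · haveI := hp
    exact formallySmooth_of_powIndep p
      (((isGeometricallyReduced_iff_powIndep p).1 h).of_injective K₀.val K₀.val.injective)

theorem isGeometricallyReduced_of_perfectField {k : Type u} {K : Type v} [Field k] [PerfectField k] [Field K]
    [Algebra k K] : Algebra.IsGeometricallyReduced k K := by
  rw [Algebra.isGeometricallyReduced_field_iff]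
  have key : IsReduced (K ⊗[k] AlgebraicClosure k) := by
    refine IsReduced.tensorProduct_of_flat_of_forall_fg fun B hB => ?_
    obtain ⟨s, rfl⟩ := hB
    let L := IntermediateField.adjoin k (s : Set (AlgebraicClosure k))
    haveI : FiniteDimensional k L :=
      IntermediateField.finiteDimensional_adjoin fun x _ => Algebra.IsIntegral.isIntegral x
    haveI : Algebra.FormallyUnramified k L := Algebra.FormallyUnramified.of_isSeparable k L
    have hle : Algebra.adjoin k (s : Set (AlgebraicClosure k)) ≤ L.toSubalgebra :=
      IntermediateField.algebra_adjoin_le_adjoin k _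
    haveI : IsReduced (K ⊗[k] L) := Algebra.FormallyUnramified.isReduced_of_field K (K ⊗[k] L)
    exact isReduced_of_injective (Algebra.TensorProduct.map (AlgHom.id k K) (Subalgebra.inclusion hle))
      (Module.Flat.lTensor_preserves_injective_linearMap _ (Subalgebra.inclusion_injective hle))
  exact isReduced_of_injective (Algebra.TensorProduct.comm k _ _) (AlgEquiv.injective _)

theorem formallySmooth_iff_isGeometricallyReduced {k : Type u} {K : Type v} [Field k] [Field K] [Algebra k K] :
    Algebra.FormallySmooth k K ↔ Algebra.IsGeometricallyReduced k K := by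
  refine ⟨fun h => ?_, formallySmooth_of_isGeometricallyReduced⟩
  obtain _ | ⟨p, hp, hpk⟩ := CharP.exists' k
  · exact isGeometricallyReduced_of_perfectField
  · haveI := hp
    exact (isGeometricallyReduced_iff_powIndep p).2 (powIndep_of_formallySmooth p)

end Groth.Agent.FieldExtLib
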