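import Mathlib

/-!
Maximal ideals of polynomial rings over a field; the Euler characteristic of the naive cotangent
complex of a finite field extension.
-/

set_option autoImplicit false
universe u v w

namespace Groth.Agent.FieldExtLib

open Polynomial in
theorem maximal_mvPolynomial (F : Type u) [Field F] : ∀ (n : ℕ) (m : Ideal (MvPolynomial (Fin n) F)), m.IsMaximal →
    m.height = n ∧ ∃ g : Fin n → MvPolynomial (Fin n) F, m = Ideal.span (Set.range g) := by
  intro n
  induction n with
  | zero =>
    intro m hm
    have hf : IsField (MvPolynomial (Fin 0) F) :=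
      MulEquiv.isField (Field.toIsField F) (MvPolynomial.isEmptyRingEquiv F (Fin 0)).toMulEquiv
    letI := hf.toField
    have h0 : m = ⊥ := (Ideal.eq_bot_or_top m).resolve_right hm.ne_top
    subst h0
    exact ⟨by simp, Fin.elim0, by simp⟩
  | succ n ih =>
    intro m hm
    let e := (MvPolynomial.finSuccEquiv F n).toRingEquiv
    let M : Ideal (MvPolynomial (Fin n) F)[X] := m.map e
    haveI : M.IsMaximal := Ideal.map_isMaximal_of_equiv e
    let p := M.comap (C : MvPolynomial (Fin n) F →+* _)
    haveI hp : p.IsMaximal := Polynomial.isMaximal_comap_C_of_isJacobsonRing M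
    haveI : M.LiesOver p := ⟨rfl⟩
    obtain ⟨hpht, g, hg⟩ := ih p hp
    letI := Ideal.Quotient.field p
    obtain ⟨r, hr⟩ := IsPrincipalIdealRing.principal (M.map (mapRingHom (Ideal.Quotient.mk p)))
    obtain ⟨h, rfl⟩ := map_surjective (Ideal.Quotient.mk p) Ideal.Quotient.mk_surjective r
    have hker : RingHom.ker (mapRingHom (Ideal.Quotient.mk p)) = p.map C := by
      rw [Polynomial.ker_mapRingHom, Ideal.mk_ker]
    have hpM : p.map C ≤ M := Ideal.map_comap_le
    have hM : M = p.map C ⊔ Ideal.span {h} := by
      have h1 : M ⊔ p.map C = p.map C ⊔ Ideal.span {h} := by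
        rw [← hker, ← Ideal.comap_map_of_surjective' _ (map_surjective _ Ideal.Quotient.mk_surjective), hr,
          sup_comm, ← Ideal.comap_map_of_surjective' _ (map_surjective _ Ideal.Quotient.mk_surjective), Ideal.map_span,
          Set.image_singleton]
        rfl
      rwa [sup_of_le_left hpM] at h1
    have hm' : m = M.map e.symm := by
      show m = (m.map e).map e.symm
      rw [← Ideal.comap_symm, e.symm_symm, Ideal.comap_map_of_bijective _ e.bijective]
    refine ⟨?_, Fin.cons (e.symm h) (fun i => e.symm (C (g i))), ?_⟩
    · rw [← e.height_map m, Polynomial.height_eq_height_add_one p M, hpht]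
      simp
    · rw [hm', hM, Fin.range_cons, hg, Ideal.map_sup, Ideal.map_span, Ideal.map_span, Ideal.map_span,
        Set.image_singleton, Ideal.span_insert, sup_comm, ← Set.range_comp, ← Set.range_comp]
      rfl

theorem finrank_cotangent_eq {F L : Type u} [Field F] [Field L] [Algebra F L] {n : ℕ}
    (P : Algebra.Generators F L (Fin n)) :
    Module.Finite L P.toExtension.Cotangent ∧ Module.finrank L P.toExtension.Cotangent = n := by
  classical
  have hsurj : Function.Surjective (MvPolynomial.aeval (R := F) P.val) := fun x => ⟨_, P.aeval_val_σ x⟩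
  haveI hm : P.ker.IsMaximal := by
    rw [Algebra.Generators.ker_eq_ker_aeval_val]
    exact RingHom.ker_isMaximal_of_surjective _ hsurj
  obtain ⟨hht, g, hg⟩ := maximal_mvPolynomial F n P.ker hm
  let gk : Fin n → P.toExtension.ker := fun i => ⟨g i, by
    show g i ∈ P.ker
    rw [hg]; exact Ideal.subset_span ⟨i, rfl⟩⟩
  let φ : (Fin n → L) →ₗ[L] P.toExtension.Cotangent :=
    Fintype.linearCombination L fun i => Algebra.Extension.Cotangent.mk (gk i)
  have hφ : Function.Surjective φ := by
    intro z
    obtain ⟨x, rfl⟩ := Algebra.Extension.Cotangent.mk_surjective z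
    have hx : (x : P.toExtension.Ring) ∈ Ideal.span (Set.range g) := by
      rw [← hg]; exact x.2
    obtain ⟨c, hc⟩ := Ideal.mem_span_range_iff_exists_fun.1 hx
    refine ⟨fun i => algebraMap P.toExtension.Ring L (c i), ?_⟩
    rw [Fintype.linearCombination_apply]
    have : x = ∑ i, (c i : P.toExtension.Ring) • gk i := Subtype.ext (by
      rw [← hc, Submodule.coe_sum]; rfl)
    rw [this, map_sum]
    refine Finset.sum_congr rfl fun i _ => ?_
    rw [map_smul, algebraMap_smul]
  haveI : Module.Finite L P.toExtension.Cotangent := Module.Finite.of_surjective φ hφ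
  refine ⟨inferInstance, le_antisymm ?_ ?_⟩
  · simpa using LinearMap.finrank_le_finrank_of_injective (f := φ.dualMap) (LinearMap.dualMap_injective_of_surjective hφ)
  · by_contra hlt
    rw [not_le] at hlt
    set r := Module.finrank L P.toExtension.Cotangent with hr
    let b := Module.finBasis L P.toExtension.Cotangent
    choose g' hg' using fun i => Algebra.Extension.Cotangent.mk_surjective (b i)
    let J : Ideal (MvPolynomial (Fin n) F) := Ideal.span (Set.range fun i => ((g' i).1 : MvPolynomial (Fin n) F))
    have hJ : J ≤ P.ker := Ideal.span_le.2 (by rintro _ ⟨i, rfl⟩; exact (g' i).2)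
    have hle : P.ker ≤ J ⊔ P.ker ^ 2 := by
      intro x hx
      let z := Algebra.Extension.Cotangent.mk (P := P.toExtension) ⟨x, hx⟩
      choose c hc using fun i => P.toExtension.algebraMap_surjective (b.repr z i)
      have h1 : Algebra.Extension.Cotangent.mk (P := P.toExtension) (⟨x, hx⟩ - ∑ i, c i • g' i) = 0 := by
        rw [map_sub, map_sum, sub_eq_zero]
        show z = _
        conv_lhs => rw [← b.sum_repr z]
        refine Finset.sum_congr rfl fun i _ => ?_
        rw [map_smul, hg', ← hc i, algebraMap_smul]
      rw [Algebra.Extension.Cotangent.mk_eq_zero_iff] at h1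
      let c0 : Fin r → MvPolynomial (Fin n) F := c
      let gv : Fin r → MvPolynomial (Fin n) F := fun i => (g' i).1
      let x0 : MvPolynomial (Fin n) F := x
      have h2 : x0 = (∑ i, c0 i * gv i) + (x0 - ∑ i, c0 i * gv i) := by ring
      show x0 ∈ _
      rw [h2]
      refine Submodule.add_mem_sup (Ideal.sum_mem _ fun i _ => Ideal.mul_mem_left _ _ (Ideal.subset_span ⟨i, rfl⟩)) ?_
      simp only [AddSubgroupClass.coe_sub, Submodule.coe_sum, SetLike.val_smul, smul_eq_mul] at h1
      exact h1
    obtain ⟨s, hs1, hs⟩ := Submodule.exists_sub_one_mem_and_smul_eq_zero_of_fg_of_le_smul P.ker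
      (Submodule.map (Submodule.mkQ J) P.ker) (IsNoetherian.noetherian _) (by
        rw [← Submodule.map_smul'', smul_eq_mul, ← pow_two]
        refine (Submodule.map_mono hle).trans ?_
        rw [Submodule.map_sup]
        refine sup_le ?_ le_rfl
        rw [show Submodule.map (Submodule.mkQ J) J = ⊥ by
          rw [eq_bot_iff, Submodule.map_le_iff_le_comap, Submodule.comap_bot, Submodule.ker_mkQ]]
        exact bot_le)
    have hmin : P.ker ∈ J.minimalPrimes := by
      refine ⟨⟨hm.isPrime, hJ⟩, fun q ⟨hq, hJq⟩ hqP => fun x hx => ?_⟩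
      have hsq : s ∉ q := fun h => hm.ne_top (Ideal.eq_top_iff_one _ |>.2 (by
        have := P.ker.sub_mem (hqP h) hs1; simpa using this))
      have h1 := hs _ (Submodule.mem_map_of_mem hx)
      rw [Submodule.mkQ_apply, ← Submodule.Quotient.mk_smul, Submodule.Quotient.mk_eq_zero, smul_eq_mul] at h1
      exact (hq.mem_or_mem (hJq h1)).resolve_left hsq
    have h1 := Ideal.height_le_card_of_mem_minimalPrimes_span (Set.finite_range _) hmin
    rw [hht, Nat.cast_le] at h1
    have h2 : (Set.range fun i => ((g' i).1 : MvPolynomial (Fin n) F)).ncard ≤ r := by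
      rw [← Set.image_univ]
      exact (Set.ncard_image_le Set.finite_univ).trans (le_of_eq (by simp [hr, Set.ncard_univ, Nat.card_fin]))
    have h3 : n ≤ r := le_trans h1 h2
    omega

/-- For a finite field extension `L/F`, `dim H¹ = dim Ω`. -/
theorem finrank_h1Cotangent_eq (F L : Type u) [Field F] [Field L] [Algebra F L] [Module.Finite F L] :
    Module.Finite L (Algebra.H1Cotangent F L) ∧
      Module.finrank L (Algebra.H1Cotangent F L) = Module.finrank L Ω[L⁄F] := by
  classical
  let b := Module.finBasis F L
  set n := Module.finrank F L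
  have hsurj : Function.Surjective (MvPolynomial.aeval (R := F) b) := fun x =>
    ⟨∑ i, MvPolynomial.C (b.repr x i) * MvPolynomial.X i, by
      simp only [map_sum, map_mul, MvPolynomial.aeval_C, MvPolynomial.aeval_X, ← Algebra.smul_def, b.sum_repr]⟩
  let P := Algebra.Generators.ofSurjective b hsurj
  obtain ⟨hfin, hn⟩ := finrank_cotangent_eq P
  haveI := hfin
  haveI : Module.Finite L P.toExtension.CotangentSpace := Module.Finite.of_basis P.cotangentSpaceBasis
  haveI : Module.Finite L P.toExtension.H1Cotangent :=
    Module.Finite.of_injective _ P.toExtension.h1Cotangentι_injective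
  let e := Algebra.Generators.H1Cotangent.equiv P (Algebra.Generators.self F L)
  refine ⟨Module.Finite.equiv e, ?_⟩
  rw [← e.finrank_eq]
  have h1 := P.toExtension.cotangentComplex.finrank_range_add_finrank_ker
  have h2 := P.toExtension.toKaehler.finrank_range_add_finrank_ker
  rw [LinearMap.range_eq_top.2 P.toExtension.toKaehler_surjective, finrank_top,
    LinearMap.exact_iff.1 P.toExtension.exact_cotangentComplex_toKaehler,
    Module.finrank_eq_card_basis P.cotangentSpaceBasis, Fintype.card_fin] at h2
  rw [hn] at h1
  have h3 : Module.finrank L P.toExtension.H1Cotangent = Module.finrank L P.toExtension.cotangentComplex.ker := rfl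
  omega

end Groth.Agent.FieldExtLib
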