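import Mathlib
import Groth.Prelude.Def_EGA41
import Groth.Agent.FieldExtLib.Separable
import Groth.Agent.FieldExtLib.Cartier

/-!
Cartier's equality: for a finitely generated field extension `L/K`,
`dim Ω_{L/K} = dim H¹(L/K) + trdeg`, and `H¹(L/K) ≅ Υ_{L/K}`.
-/

set_option autoImplicit false
universe u v w
open TensorProduct

namespace Groth.Agent.FieldExtLib

/-- Composable functoriality of `H¹`: if `H¹(L/F) = 0` then `H¹(L/R) → H¹(L/K)` is zero. -/
theorem h1_map_eq_zero {R : Type w} {F : Type v} {K L : Type u} [CommRing R] [CommRing F] [CommRing K] [CommRing L]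
    [Algebra R F] [Algebra R K] [Algebra F K] [Algebra R L] [Algebra F L] [Algebra K L]
    [IsScalarTower R F K] [IsScalarTower R F L] [IsScalarTower R K L] [IsScalarTower F K L]
    [Subsingleton (Algebra.H1Cotangent F L)] (x : Algebra.H1Cotangent R L) :
    Algebra.H1Cotangent.map R K L L x = 0 := by
  have h : Algebra.H1Cotangent.map R K L L x =
      Algebra.H1Cotangent.map F K L L (Algebra.H1Cotangent.map R F L L x) := by
    unfold Algebra.H1Cotangent.map
    rw [← Algebra.Extension.H1Cotangent.map_comp_apply]
    exact LinearMap.congr_fun (Algebra.Extension.H1Cotangent.map_eq _ _) x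
  rw [h, Subsingleton.elim (Algebra.H1Cotangent.map R F L L x) 0, map_zero]

/-- The connecting map `H¹(L/K) → L ⊗ Ω_{K/R}` is injective when `R → K → L` passes through a
ring over which `L` is formally smooth. -/
theorem δ_injective {R : Type w} {F : Type v} {K L : Type u} [CommRing R] [CommRing F] [CommRing K] [CommRing L]
    [Algebra R F] [Algebra R K] [Algebra F K] [Algebra R L] [Algebra F L] [Algebra K L]
    [IsScalarTower R F K] [IsScalarTower R F L] [IsScalarTower R K L] [IsScalarTower F K L]
    [Algebra.FormallySmooth F L] : Function.Injective (Algebra.H1Cotangent.δ R K L) := by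
  haveI : Subsingleton (Algebra.H1Cotangent F L) := Algebra.FormallySmooth.subsingleton_h1Cotangent
  rw [← LinearMap.ker_eq_bot, (Algebra.H1Cotangent.exact_map_δ R K L).linearMap_ker_eq, LinearMap.range_eq_bot]
  exact LinearMap.ext fun x => h1_map_eq_zero (F := F) x

theorem formallySmooth_field_of_perfectField (k : Type v) (L : Type u) [Field k] [Field L] [Algebra k L] [PerfectField k] :
    Algebra.FormallySmooth k L :=
  formallySmooth_of_isGeometricallyReduced isGeometricallyReduced_of_perfectField

/-- For fields, `H¹(L/K) ≅ Υ_{L/K}` (absolute). -/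
theorem nonempty_h1_equiv_imperfection (K L : Type u) [Field K] [Field L] [Algebra K L] :
    Nonempty (Algebra.H1Cotangent K L ≃ₗ[L] EGA41.imperfection ℤ K L) := by
  have hinj : Function.Injective (Algebra.H1Cotangent.δ ℤ K L) := by
    obtain _ | ⟨p, hp, hpk⟩ := CharP.exists' K
    · haveI : CharZero L := charZero_of_injective_algebraMap (algebraMap K L).injective
      haveI : IsScalarTower ℚ K L := IsScalarTower.of_algebraMap_eq' (RingHom.ext_rat _ _)
      haveI : Algebra.FormallySmooth ℚ L := formallySmooth_field_of_perfectField ℚ L
      exact δ_injective (F := ℚ)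
    · haveI := hp
      haveI : CharP L p := charP_of_injective_algebraMap (algebraMap K L).injective p
      letI := ZMod.algebra K p
      letI := ZMod.algebra L p
      haveI : IsScalarTower (ZMod p) K L := IsScalarTower.of_algebraMap_eq' (RingHom.ext_zmod _ _)
      haveI : Algebra.FormallySmooth (ZMod p) L := formallySmooth_of_isGeometricallyReduced isGeometricallyReduced_of_perfectField
      exact δ_injective (F := ZMod p)
  exact ⟨(LinearEquiv.ofInjective _ hinj).trans
    (LinearEquiv.ofEq _ _ (Algebra.H1Cotangent.exact_δ_mapBaseChange ℤ K L).linearMap_ker_eq.symm)⟩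

/-- **Cartier's equality**, intrinsic form. -/
theorem finrank_kaehler_eq (K L : Type u) [Field K] [Field L] [Algebra K L] [Algebra.EssFiniteType K L] :
    Module.Finite L (Algebra.H1Cotangent K L) ∧
      Module.finrank L Ω[L⁄K] = Module.finrank L (Algebra.H1Cotangent K L) + Cardinal.toNat (Algebra.trdeg K L) := by
  classical
  obtain ⟨s, hs⟩ := IntermediateField.fg_top K L
  have : Algebra.IsAlgebraic (Algebra.adjoin K (s : Set L)) L := by
    rw [← IntermediateField.isAlgebraic_adjoin_iff_top, hs, Algebra.isAlgebraic_iff_isIntegral]
    exact Algebra.isIntegral_of_surjective IntermediateField.topEquiv.surjective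
  obtain ⟨t, hts, ht⟩ := exists_isTranscendenceBasis_subset (R := K) (s : Set L)
  lift t to Finset L using s.finite_toSet.subset hts
  let E := IntermediateField.adjoin K (Set.range ((↑) : t → L))
  haveI : Algebra.IsAlgebraic E L := ht.isAlgebraic_field
  haveI : Algebra.EssFiniteType E L := Algebra.EssFiniteType.of_comp K E L
  haveI : Module.Finite E L := Algebra.finite_of_essFiniteType_of_isAlgebraic
  haveI : Algebra.FormallySmooth K E := Algebra.FormallySmooth.adjoin_of_algebraicIndependent ht.1
  haveI : Algebra.EssFiniteType K E := IntermediateField.essFiniteType_iff.2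
    (by show (IntermediateField.adjoin K _).FG; rw [show (Set.range ((↑) : t → L)) = (t : Set L) by simp]; exact IntermediateField.fg_adjoin_finset t)
  let P := MvPolynomial t K
  let e : FractionRing P ≃ₐ[K] E := ht.1.aevalEquivField
  have hn : Module.finrank L (L ⊗[E] Ω[E⁄K]) = t.card := by
    letI : Algebra P E := ((e.toAlgHom.toRingHom).comp (algebraMap P (FractionRing P))).toAlgebra
    haveI : IsScalarTower K P E := IsScalarTower.of_algebraMap_eq fun r => by
      rw [RingHom.algebraMap_toAlgebra, RingHom.comp_apply, ← IsScalarTower.algebraMap_apply]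
      exact (e.commutes r).symm
    let e' : FractionRing P ≃ₐ[P] E := AlgEquiv.ofRingEquiv (f := e.toRingEquiv) fun r => rfl
    haveI : IsFractionRing P E := IsLocalization.isLocalization_of_algEquiv _ e'
    haveI : Algebra.FormallyEtale P E := Algebra.FormallyEtale.of_isLocalization (nonZeroDivisors P)
    rw [Module.finrank_baseChange, ← (KaehlerDifferential.tensorKaehlerEquivOfFormallyEtale K P E).finrank_eq,
      Module.finrank_baseChange, Module.finrank_eq_card_basis (KaehlerDifferential.mvPolynomialBasis K t),
      Fintype.card_coe]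
  have htr : Cardinal.toNat (Algebra.trdeg K L) = t.card := by
    rw [← ht.cardinalMk_eq_trdeg]; simp
  obtain ⟨hfinF, hF⟩ := finrank_h1Cotangent_eq E L
  haveI := hfinF
  haveI : Subsingleton (Algebra.H1Cotangent K E) := Algebra.FormallySmooth.subsingleton_h1Cotangent
  have hi : Function.Injective (Algebra.H1Cotangent.map K E L L) := by
    rw [← LinearMap.ker_eq_bot, (Algebra.H1Cotangent.exact_liftBaseChange_map_of_flat K E L).linearMap_ker_eq,
      LinearMap.range_eq_bot]
    refine LinearMap.ext fun z => ?_
    induction z using TensorProduct.induction_on with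
    | zero => simp
    | tmul a b => rw [Subsingleton.elim b 0, TensorProduct.tmul_zero, map_zero, map_zero]
    | add x y hx hy => rw [map_add, map_add, hx, hy]
  haveI : Module.Finite L (Algebra.H1Cotangent K L) := Module.Finite.of_injective _ hi
  refine ⟨inferInstance, ?_⟩
  have e1 : (Algebra.H1Cotangent.δ K E L).ker = LinearMap.range (Algebra.H1Cotangent.map K E L L) :=
    (Algebra.H1Cotangent.exact_map_δ K E L).linearMap_ker_eq
  have e2 := (Algebra.H1Cotangent.exact_δ_mapBaseChange K E L).linearMap_ker_eq
  have e3 := (KaehlerDifferential.exact_mapBaseChange_map K E L).linearMap_ker_eq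
  have r1 := (Algebra.H1Cotangent.δ K E L).finrank_range_add_finrank_ker
  have r2 := (KaehlerDifferential.mapBaseChange K E L).finrank_range_add_finrank_ker
  have r3 := (KaehlerDifferential.map K E L L).finrank_range_add_finrank_ker
  rw [e1, LinearMap.finrank_range_of_inj hi] at r1
  rw [e2, hn] at r2
  rw [e3, LinearMap.range_eq_top.2 (KaehlerDifferential.map_surjective K E L), finrank_top] at r3
  omega

end Groth.Agent.FieldExtLib
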