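import Mathlib
import Groth.Agent.FieldExtLib.Separable

/-!
Lifting formally smooth algebras into complete rings.
-/

set_option autoImplicit false
universe u v w

namespace Groth.Agent.FieldExtLib

theorem exists_lift_complete {k : Type u} {R : Type v} {A : Type w} [CommRing k] [CommRing R] [CommRing A]
    [Algebra k R] [Algebra k A] [Algebra.FormallySmooth k R] (I : Ideal A) [IsAdicComplete I A] (m : ℕ)
    (f₀ : R →ₐ[k] A ⧸ I ^ (m + 1)) :
    ∃ F : R →ₐ[k] A, (Ideal.Quotient.mkₐ k (I ^ (m + 1))).comp F = f₀ := by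
  classical
  have hstep : ∀ n, ∀ g : R →ₐ[k] A ⧸ I ^ (m + 1 + n), ∃ g' : R →ₐ[k] A ⧸ I ^ (m + 1 + (n + 1)),
      (Ideal.Quotient.factorₐ k (Ideal.pow_le_pow_right (by omega : m + 1 + n ≤ m + 1 + (n + 1)))).comp g' = g := by
    intro n g
    let π : A ⧸ I ^ (m + 1 + (n + 1)) →ₐ[k] A ⧸ I ^ (m + 1 + n) :=
      Ideal.Quotient.factorₐ k (Ideal.pow_le_pow_right (by omega))
    have hπ : Function.Surjective π := fun z => by
      obtain ⟨x, rfl⟩ := Ideal.Quotient.mk_surjective z
      exact ⟨Ideal.Quotient.mk _ x, rfl⟩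
    have hker : IsNilpotent (RingHom.ker π.toRingHom) := ⟨2, by
      rw [Ideal.zero_eq_bot, eq_bot_iff]
      have hle : RingHom.ker π.toRingHom ≤ (I ^ (m + 1 + n)).map (Ideal.Quotient.mk (I ^ (m + 1 + (n + 1)))) := by
        intro z hz
        obtain ⟨x, rfl⟩ := Ideal.Quotient.mk_surjective z
        exact Ideal.mem_map_of_mem _ (Ideal.Quotient.eq_zero_iff_mem.1 hz)
      refine (Ideal.pow_right_mono hle 2).trans ?_
      rw [← Ideal.map_pow, Ideal.map_le_iff_le_comap, ← RingHom.ker_eq_comap_bot, Ideal.mk_ker, ← pow_mul]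
      exact Ideal.pow_le_pow_right (by omega)⟩
    exact ⟨Algebra.FormallySmooth.liftOfSurjective g π hπ hker,
      AlgHom.ext fun x => Algebra.FormallySmooth.liftOfSurjective_apply g π hπ hker x⟩
  choose next hnext using hstep
  let seq : (n : ℕ) → R →ₐ[k] A ⧸ I ^ (m + 1 + n) := fun n => Nat.rec f₀ next n
  have ha : StrictMono fun n => m + 1 + n := fun a b h => by simpa using h
  have hf : ∀ {n : ℕ}, (Ideal.Quotient.factorPow I (ha.monotone n.le_succ)).comp (seq (n + 1)).toRingHom = (seq n).toRingHom :=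
    fun {n} => RingHom.ext fun x => AlgHom.congr_fun (hnext n (seq n)) x
  let F := IsAdicComplete.StrictMono.liftRingHom I ha (fun n => (seq n).toRingHom) hf
  have hF : ∀ n x, Ideal.Quotient.mk (I ^ (m + 1 + n)) (F x) = seq n x := fun n x =>
    IsAdicComplete.StrictMono.mk_liftRingHom I ha (fun n => (seq n).toRingHom) hf x
  refine ⟨{ F with commutes' := fun c => ?_ }, AlgHom.ext fun x => hF 0 x⟩
  refine sub_eq_zero.1 (IsHausdorff.haus (I := I) inferInstance _ fun n => ?_)
  rw [SModEq.zero, smul_eq_mul, Ideal.mul_top]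
  refine Ideal.pow_le_pow_right (show n ≤ m + 1 + n by omega) ?_
  rw [← Ideal.Quotient.eq_zero_iff_mem, map_sub, sub_eq_zero]
  exact (hF n _).trans ((seq n).commutes c)

end Groth.Agent.FieldExtLib
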