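import Mathlib
import Groth.Agent.FieldExtLib.Separable

/-!
The absolute conormal sequence at the closed point of a local ring in characteristic `p`, and an
index lemma for morphisms of short exact sequences.
-/

set_option autoImplicit false
universe u v w
open TensorProduct IsLocalRing

namespace Groth.Agent.FieldExtLib

theorem index_eq {k : Type u} [Field k] {X₁ X₂ X₃ Y₁ Y₂ Y₃ : Type v}
    [AddCommGroup X₁] [Module k X₁] [AddCommGroup X₂] [Module k X₂] [AddCommGroup X₃] [Module k X₃]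
    [AddCommGroup Y₁] [Module k Y₁] [AddCommGroup Y₂] [Module k Y₂] [AddCommGroup Y₃] [Module k Y₃]
    [Module.Finite k X₁] [Module.Finite k Y₁]
    (u₁ : X₁ →ₗ[k] X₂) (u₂ : X₂ →ₗ[k] X₃) (v₁ : Y₁ →ₗ[k] Y₂) (v₂ : Y₂ →ₗ[k] Y₃)
    (hu₁ : Function.Injective u₁) (hu : Function.Exact u₁ u₂) (hu₂ : Function.Surjective u₂)
    (hv₁ : Function.Injective v₁) (hv : Function.Exact v₁ v₂) (hv₂ : Function.Surjective v₂)
    (f₁ : X₁ →ₗ[k] Y₁) (f₂ : X₂ →ₗ[k] Y₂) (f₃ : X₃ →ₗ[k] Y₃)
    (h₁ : f₂ ∘ₗ u₁ = v₁ ∘ₗ f₁) (h₂ : f₃ ∘ₗ u₂ = v₂ ∘ₗ f₂)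
    [Module.Finite k (LinearMap.ker f₂)] [Module.Finite k (LinearMap.ker f₃)]
    [Module.Finite k (Y₂ ⧸ LinearMap.range f₂)] [Module.Finite k (Y₃ ⧸ LinearMap.range f₃)] :
    (Module.finrank k X₁ : ℤ) - Module.finrank k Y₁ =
      ((Module.finrank k (LinearMap.ker f₂) : ℤ) - Module.finrank k (Y₂ ⧸ LinearMap.range f₂)) -
      ((Module.finrank k (LinearMap.ker f₃) : ℤ) - Module.finrank k (Y₃ ⧸ LinearMap.range f₃)) := by
  let a : LinearMap.ker f₁ →ₗ[k] LinearMap.ker f₂ :=
    (u₁ ∘ₗ (LinearMap.ker f₁).subtype).codRestrict _ fun x => by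
      show f₂ (u₁ x) = 0
      rw [← LinearMap.comp_apply f₂, h₁, LinearMap.comp_apply, LinearMap.mem_ker.1 x.2, map_zero]
  let F : LinearMap.ker f₂ →ₗ[k] LinearMap.ker f₃ :=
    (u₂ ∘ₗ (LinearMap.ker f₂).subtype).codRestrict _ fun x => by
      show f₃ (u₂ x) = 0
      rw [← LinearMap.comp_apply f₃, h₂, LinearMap.comp_apply, LinearMap.mem_ker.1 x.2, map_zero]
  let G : (Y₁ ⧸ LinearMap.range f₁) →ₗ[k] Y₂ ⧸ LinearMap.range f₂ :=
    Submodule.mapQ _ _ v₁ (by
      rintro _ ⟨x, rfl⟩
      exact ⟨u₁ x, LinearMap.congr_fun h₁ x⟩)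
  let H : (Y₂ ⧸ LinearMap.range f₂) →ₗ[k] Y₃ ⧸ LinearMap.range f₃ :=
    Submodule.mapQ _ _ v₂ (by
      rintro _ ⟨x, rfl⟩
      exact ⟨u₂ x, LinearMap.congr_fun h₂ x⟩)
  let δ := SnakeLemma.δ' f₁ f₂ f₃ u₁ u₂ hu v₁ v₂ hv h₁.symm h₂.symm (LinearMap.ker f₃).subtype
    (LinearMap.exact_subtype_ker_map f₃) (LinearMap.range f₁).mkQ (LinearMap.exact_map_mkQ_range f₁) hu₂ hv₁
  have eF : LinearMap.ker F = LinearMap.range a := by
    ext x
    constructor
    · intro hx
      obtain ⟨y, hy⟩ := (hu x).1 (congrArg Subtype.val (LinearMap.mem_ker.1 hx))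
      refine ⟨⟨y, ?_⟩, Subtype.ext hy⟩
      rw [LinearMap.mem_ker]
      apply hv₁
      rw [map_zero, ← LinearMap.comp_apply v₁, ← h₁, LinearMap.comp_apply, hy]
      exact x.2
    · rintro ⟨y, rfl⟩
      exact Subtype.ext (hu.apply_apply_eq_zero y)
  have eH : LinearMap.ker H = LinearMap.range G := by
    ext x
    obtain ⟨x, rfl⟩ := Submodule.Quotient.mk_surjective _ x
    constructor
    · intro hx
      obtain ⟨y, hy⟩ := (Submodule.Quotient.mk_eq_zero _).1 (LinearMap.mem_ker.1 hx)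
      obtain ⟨z, rfl⟩ := hu₂ y
      obtain ⟨w, hw⟩ := (hv (x - f₂ z)).1 (by
        rw [map_sub, ← LinearMap.comp_apply v₂, ← h₂, LinearMap.comp_apply, hy, sub_self])
      refine ⟨Submodule.Quotient.mk w, ?_⟩
      show Submodule.Quotient.mk (v₁ w) = Submodule.Quotient.mk x
      rw [hw, Submodule.Quotient.eq]
      exact ⟨-z, by rw [map_neg]; abel⟩
    · rintro ⟨y, hy⟩
      obtain ⟨y, rfl⟩ := Submodule.Quotient.mk_surjective _ y
      rw [LinearMap.mem_ker, ← hy]
      show Submodule.Quotient.mk (v₂ (v₁ y)) = 0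
      rw [hv.apply_apply_eq_zero]
      exact Submodule.Quotient.mk_zero _
  have eδ : LinearMap.ker δ = LinearMap.range F :=
    (SnakeLemma.exact_δ'_right f₁ f₂ f₃ u₁ u₂ hu v₁ v₂ hv h₁.symm h₂.symm (ι₂ := (LinearMap.ker f₂).subtype)
      (hι₂ := LinearMap.exact_subtype_ker_map f₂) _ (LinearMap.exact_subtype_ker_map f₃) _
      (LinearMap.exact_map_mkQ_range f₁) hu₂ hv₁ F rfl Subtype.val_injective).linearMap_ker_eq
  have eG : LinearMap.ker G = LinearMap.range δ :=
    (SnakeLemma.exact_δ'_left f₁ f₂ f₃ u₁ u₂ hu v₁ v₂ hv h₁.symm h₂.symm _ (LinearMap.exact_subtype_ker_map f₃) _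
      (LinearMap.exact_map_mkQ_range f₁) (π₂ := (LinearMap.range f₂).mkQ)
      (hπ₂ := LinearMap.exact_map_mkQ_range f₂) hu₂ hv₁ G rfl (Submodule.mkQ_surjective _)).linearMap_ker_eq
  have ha : Function.Injective a := fun x y h => Subtype.ext (hu₁ (congrArg Subtype.val h))
  have hH : Function.Surjective H := fun x => by
    obtain ⟨x, rfl⟩ := Submodule.Quotient.mk_surjective _ x
    obtain ⟨y, rfl⟩ := hv₂ x
    exact ⟨Submodule.Quotient.mk y, rfl⟩
  have r1 := F.finrank_range_add_finrank_ker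
  have r2 := δ.finrank_range_add_finrank_ker
  have r3 := G.finrank_range_add_finrank_ker
  have r4 := H.finrank_range_add_finrank_ker
  have r5 := f₁.finrank_range_add_finrank_ker
  have r6 := (LinearMap.range f₁).finrank_quotient_add_finrank
  rw [eF, LinearMap.finrank_range_of_inj ha] at r1
  rw [eδ] at r2
  rw [eG] at r3
  rw [eH, LinearMap.range_eq_top.2 hH, finrank_top] at r4
  omega

variable (R : Type u) [CommRing R] [IsLocalRing R]

/-- `m/m² → κ ⊗ Ω_{R/ℤ}`, `x ↦ 1 ⊗ dx`. -/
noncomputable def conormal : CotangentSpace R →ₗ[R] ResidueField R ⊗[R] Ω[R⁄ℤ] :=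
  Ideal.Cotangent.lift
    { toFun := fun x : maximalIdeal R => (1 : ResidueField R) ⊗ₜ[R] KaehlerDifferential.D ℤ R (x : R)
      map_add' := fun x y => by simp [TensorProduct.tmul_add]
      map_smul' := fun r x => by
        rw [RingHom.id_apply, SetLike.val_smul, smul_eq_mul, Derivation.leibniz, TensorProduct.tmul_add,
          TensorProduct.tmul_smul, TensorProduct.tmul_smul, add_eq_left, TensorProduct.smul_tmul', ← Algebra.algebraMap_eq_smul_one]
        rw [show algebraMap R (ResidueField R) (x : R) = 0 from (residue_eq_zero_iff _).2 x.2, TensorProduct.zero_tmul] }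
    (fun x y => by
      show (1 : ResidueField R) ⊗ₜ[R] KaehlerDifferential.D ℤ R ((x : R) * y) = 0
      have h0 : ∀ z : maximalIdeal R, ∀ w : Ω[R⁄ℤ], (1 : ResidueField R) ⊗ₜ[R] ((z : R) • w) = 0 := fun z w => by
        rw [TensorProduct.tmul_smul, TensorProduct.smul_tmul', ← Algebra.algebraMap_eq_smul_one,
          show algebraMap R (ResidueField R) (z : R) = 0 from (residue_eq_zero_iff _).2 z.2, TensorProduct.zero_tmul]
      rw [Derivation.leibniz, TensorProduct.tmul_add, h0, h0, add_zero])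

theorem conormal_toCotangent (x : maximalIdeal R) :
    conormal R ((maximalIdeal R).toCotangent x) = (1 : ResidueField R) ⊗ₜ[R] KaehlerDifferential.D ℤ R (x : R) :=
  Ideal.Cotangent.lift_toCotangent _ _ _

theorem exact_conormal :
    Function.Exact (conormal R) (KaehlerDifferential.mapBaseChange ℤ R (ResidueField R)) := by
  intro z
  have hex := KaehlerDifferential.exact_kerCotangentToTensor_mapBaseChange ℤ R (ResidueField R) residue_surjective z
  constructor
  · intro hz
    obtain ⟨c, hc⟩ := hex.1 hz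
    obtain ⟨⟨x, hx⟩, rfl⟩ := Ideal.toCotangent_surjective _ c
    exact ⟨(maximalIdeal R).toCotangent ⟨x, (residue_eq_zero_iff x).1 hx⟩,
      (conormal_toCotangent R _).trans hc⟩
  · rintro ⟨c, rfl⟩
    obtain ⟨⟨x, hx⟩, rfl⟩ := Ideal.toCotangent_surjective _ c
    rw [conormal_toCotangent, KaehlerDifferential.mapBaseChange_tmul, KaehlerDifferential.map_D, one_smul,
      show algebraMap R (ResidueField R) x = 0 from (residue_eq_zero_iff _).2 hx, map_zero]

theorem conormal_injective_of_mem (p : ℕ) [Fact p.Prime] (hp : (p : R) ∈ maximalIdeal R ^ 2) :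
    Function.Injective (conormal R) := by
  haveI hK : CharP (ResidueField R) p := by
    refine (CharP.charP_iff_prime_eq_zero Fact.out).2 ?_
    rw [← map_natCast (residue R)]
    exact (residue_eq_zero_iff _).2 (Ideal.pow_le_self two_ne_zero hp)
  let Q := R ⧸ maximalIdeal R ^ 2
  have hpQ : (p : Q) = 0 := by
    rw [← map_natCast (Ideal.Quotient.mk (maximalIdeal R ^ 2))]
    exact Ideal.Quotient.eq_zero_iff_mem.2 hp
  let π : Q →+* ResidueField R :=
    Ideal.Quotient.lift _ (residue R) fun x hx =>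
      (residue_eq_zero_iff x).2 (Ideal.pow_le_self two_ne_zero hx)
  haveI : Nontrivial Q := π.domain_nontrivial
  haveI : CharP Q p := (CharP.charP_iff_prime_eq_zero Fact.out).2 hpQ
  letI := ZMod.algebra Q p
  letI := ZMod.algebra (ResidueField R) p
  let πA : Q →ₐ[ZMod p] ResidueField R := { π with commutes' := fun c => RingHom.congr_fun (RingHom.ext_zmod (π.comp (algebraMap (ZMod p) Q)) _) c }
  have hπ : Function.Surjective πA := fun y => by
    obtain ⟨x, rfl⟩ := residue_surjective y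
    exact ⟨Ideal.Quotient.mk _ x, rfl⟩
  have hker : IsNilpotent (RingHom.ker πA.toRingHom) := ⟨2, by
    rw [Ideal.zero_eq_bot, eq_bot_iff]
    have hle : RingHom.ker πA.toRingHom ≤ (maximalIdeal R).map (Ideal.Quotient.mk (maximalIdeal R ^ 2)) := by
      intro z hz
      obtain ⟨x, rfl⟩ := Ideal.Quotient.mk_surjective z
      exact Ideal.mem_map_of_mem _ ((residue_eq_zero_iff x).1 hz)
    refine (Ideal.pow_right_mono hle 2).trans ?_
    rw [← Ideal.map_pow, Ideal.map_quotient_self]⟩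
  haveI : Algebra.FormallySmooth (ZMod p) (ResidueField R) :=
    formallySmooth_of_isGeometricallyReduced isGeometricallyReduced_of_perfectField
  let σ := Algebra.FormallySmooth.liftOfSurjective (AlgHom.id (ZMod p) (ResidueField R)) πA hπ hker
  have hσ : ∀ y, πA (σ y) = y := fun y =>
    Algebra.FormallySmooth.liftOfSurjective_apply (AlgHom.id (ZMod p) (ResidueField R)) πA hπ hker y
  have hin : ∀ r : R, Ideal.Quotient.mk (maximalIdeal R ^ 2) r - σ (residue R r) ∈ (maximalIdeal R).cotangentIdeal := by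
    intro r
    obtain ⟨s, hs⟩ := Ideal.Quotient.mk_surjective (σ (residue R r))
    rw [← hs, ← map_sub]
    refine Ideal.mk_mem_cotangentIdeal.2 ((residue_eq_zero_iff _).1 ?_)
    rw [map_sub, sub_eq_zero]
    have h1 := hσ (residue R r)
    rw [← hs] at h1
    exact h1.symm
  let e := (maximalIdeal R).cotangentEquivIdeal
  let d₀ : R →ₗ[ℤ] CotangentSpace R :=
    (AddMonoidHom.mk' (fun r => e.symm ⟨_, hin r⟩) (fun a b => by
      rw [← map_add]; congr 1; refine Subtype.ext ?_
      show Ideal.Quotient.mk _ (a + b) - σ (residue R (a + b)) = _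
      simp only [map_add, Submodule.coe_add]; ring)).toIntLinearMap
  let d : Derivation ℤ R (CotangentSpace R) := Derivation.mk' d₀ fun a b => by
    show e.symm ⟨_, hin (a * b)⟩ = a • e.symm ⟨_, hin b⟩ + b • e.symm ⟨_, hin a⟩
    rw [← map_smul, ← map_smul, ← map_add]
    congr 1
    refine Subtype.ext ?_
    show Ideal.Quotient.mk _ (a * b) - σ (residue R (a * b)) =
      Ideal.Quotient.mk (maximalIdeal R ^ 2) a * (Ideal.Quotient.mk _ b - σ (residue R b)) +
        Ideal.Quotient.mk (maximalIdeal R ^ 2) b * (Ideal.Quotient.mk _ a - σ (residue R a))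
    have h0 : (Ideal.Quotient.mk (maximalIdeal R ^ 2) a - σ (residue R a)) *
        (Ideal.Quotient.mk (maximalIdeal R ^ 2) b - σ (residue R b)) = 0 := by
      have := Ideal.mul_mem_mul (hin a) (hin b)
      rwa [← pow_two, Ideal.cotangentIdeal_square, Submodule.mem_bot] at this
    rw [map_mul, map_mul, map_mul]
    linear_combination -h0
  let ρ : ResidueField R ⊗[R] Ω[R⁄ℤ] →ₗ[ResidueField R] CotangentSpace R :=
    d.liftKaehlerDifferential.liftBaseChange (ResidueField R)
  refine Function.LeftInverse.injective (g := ρ) fun c => ?_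
  obtain ⟨x, rfl⟩ := Ideal.toCotangent_surjective _ c
  rw [conormal_toCotangent]
  show (1 : ResidueField R) • d.liftKaehlerDifferential (KaehlerDifferential.D ℤ R (x : R)) = _
  rw [one_smul, Derivation.liftKaehlerDifferential_comp_D]
  show e.symm ⟨_, hin x⟩ = _
  rw [LinearEquiv.symm_apply_eq]
  refine Subtype.ext ?_
  show Ideal.Quotient.mk _ (x : R) - σ (residue R x) = ((maximalIdeal R).cotangentEquivIdeal ((maximalIdeal R).toCotangent x) : Q)
  rw [Ideal.cotangentEquivIdeal_apply, Ideal.toCotangent_to_quotient_square, (residue_eq_zero_iff _).2 x.2, map_zero, sub_zero]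
  rfl

theorem conormal_injective (p : ℕ) [Fact p.Prime] [CharP R p] : Function.Injective (conormal R) :=
  conormal_injective_of_mem R p (by rw [CharP.cast_eq_zero]; exact Ideal.zero_mem _)

end Groth.Agent.FieldExtLib
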