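import Mathlib
import Groth.Prelude.Def_EGA41
import Groth.Agent.FieldExtLib.Separable
import Groth.Agent.FieldExtLib.Imperfection

/-!
Extension of derivations and separability; finite rank facts for imperfection modules.
-/

set_option autoImplicit false
universe u v w
open TensorProduct

namespace Groth.Agent.FieldExtLib

theorem imperfection_eq_bot_iff {k K : Type u} [Field k] [Field K] [Algebra k K] :
    Algebra.IsGeometricallyReduced k K ↔ EGA41.imperfection ℤ k K = ⊥ := by
  obtain ⟨e⟩ := nonempty_h1_equiv_imperfection k K
  rw [← formallySmooth_iff_isGeometricallyReduced, ← Submodule.subsingleton_iff_eq_bot,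
    ← e.toEquiv.subsingleton_congr]
  exact ⟨fun h => h.subsingleton_h1Cotangent, fun h => ⟨inferInstance, h⟩⟩

/-- `k → K` has injective absolute differentials iff every derivation `k → K` extends. -/
theorem imperfection_eq_bot_iff_derivation {k K : Type u} [Field k] [Field K] [Algebra k K] :
    EGA41.imperfection ℤ k K = ⊥ ↔
      ∀ D : Derivation ℤ k K, ∃ D' : Derivation ℤ K K, ∀ a : k, D' (algebraMap k K a) = D a := by
  constructor
  · intro h D
    obtain ⟨r, hr⟩ := LinearMap.exists_leftInverse_of_injective (KaehlerDifferential.mapBaseChange ℤ k K) h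
    refine ⟨((D.liftKaehlerDifferential.liftBaseChange K) ∘ₗ r).compDer (KaehlerDifferential.D ℤ K), fun a => ?_⟩
    show D.liftKaehlerDifferential.liftBaseChange K (r (KaehlerDifferential.D ℤ K (algebraMap k K a))) = D a
    have h1 : KaehlerDifferential.mapBaseChange ℤ k K ((1 : K) ⊗ₜ[k] KaehlerDifferential.D ℤ k a) =
        KaehlerDifferential.D ℤ K (algebraMap k K a) := by
      simp [KaehlerDifferential.mapBaseChange_tmul]
    rw [← h1, ← LinearMap.comp_apply r, hr, LinearMap.id_apply, LinearMap.liftBaseChange_tmul, one_smul,
      Derivation.liftKaehlerDifferential_comp_D]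
  · intro h
    rw [eq_bot_iff]
    intro z hz
    rw [Submodule.mem_bot]
    refine (Module.forall_dual_apply_eq_zero_iff K z).1 fun φ => ?_
    let φk : Ω[k⁄ℤ] →ₗ[k] K := (φ.restrictScalars k) ∘ₗ (TensorProduct.mk k K (Ω[k⁄ℤ]) 1)
    obtain ⟨D', hD'⟩ := h (φk.compDer (KaehlerDifferential.D ℤ k))
    have hcomp : ∀ w, φ w = D'.liftKaehlerDifferential (KaehlerDifferential.mapBaseChange ℤ k K w) := by
      intro w
      induction w using TensorProduct.induction_on with
      | zero => simp
      | add x y hx hy => rw [map_add, map_add, map_add, hx, hy]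
      | tmul c w =>
        have hw : w ∈ Submodule.span k (Set.range (KaehlerDifferential.D ℤ k)) := by
          rw [KaehlerDifferential.span_range_derivation]; trivial
        clear hz
        induction hw using Submodule.span_induction generalizing c with
        | mem x hx =>
          obtain ⟨b, rfl⟩ := hx
          rw [KaehlerDifferential.mapBaseChange_tmul, KaehlerDifferential.map_D, map_smul,
            Derivation.liftKaehlerDifferential_comp_D, hD',
            show c ⊗ₜ[k] KaehlerDifferential.D ℤ k b = c • ((1 : K) ⊗ₜ[k] KaehlerDifferential.D ℤ k b) by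
              rw [TensorProduct.smul_tmul', smul_eq_mul, mul_one], map_smul]
          rfl
        | zero => simp
        | add x y _ _ hx hy => rw [TensorProduct.tmul_add, map_add, map_add, map_add, hx c, hy c]
        | smul b x _ hx => rw [TensorProduct.tmul_smul, TensorProduct.smul_tmul']; exact hx (b • c)
    rw [hcomp, LinearMap.mem_ker.1 hz, map_zero]

/-- Imperfection modules grow along `K → L`. -/
theorem finrank_imperfection_le (k K L : Type u) [Field k] [Field K] [Field L] [Algebra k K] [Algebra K L]
    [Algebra k L] [IsScalarTower k K L] [Module.Finite L (EGA41.imperfection ℤ k L)]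
    [Module.Finite K (EGA41.imperfection ℤ k K)] :
    Module.finrank K (EGA41.imperfection ℤ k K) ≤ Module.finrank L (EGA41.imperfection ℤ k L) := by
  haveI : Module.Free K (EGA41.imperfection ℤ k K) := @Module.Free.of_divisionRing K (EGA41.imperfection ℤ k K) _ (EGA41.imperfection ℤ k K).addCommGroup (EGA41.imperfection ℤ k K).module
  rw [← Module.finrank_baseChange (R := L) (S := K)]
  let ι : L ⊗[K] EGA41.imperfection ℤ k K →ₗ[L] L ⊗[k] Ω[k⁄ℤ] :=
    (TensorProduct.AlgebraTensorModule.cancelBaseChange k K L L Ω[k⁄ℤ]).toLinearMap ∘ₗ
      (EGA41.imperfection ℤ k K).subtype.baseChange L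
  have hι : Function.Injective ι :=
    (TensorProduct.AlgebraTensorModule.cancelBaseChange k K L L Ω[k⁄ℤ]).injective.comp
      (Module.Flat.lTensor_preserves_injective_linearMap _ Subtype.val_injective)
  have hcomp : ∀ (c : L) (w : K ⊗[k] Ω[k⁄ℤ]), KaehlerDifferential.mapBaseChange ℤ k L
      (TensorProduct.AlgebraTensorModule.cancelBaseChange k K L L Ω[k⁄ℤ] (c ⊗ₜ w)) =
      c • KaehlerDifferential.map ℤ ℤ K L (KaehlerDifferential.mapBaseChange ℤ k K w) := by
    intro c w
    induction w using TensorProduct.induction_on with
    | zero => simp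
    | add x y hx hy => rw [TensorProduct.tmul_add, map_add, map_add, hx, hy, map_add, map_add, smul_add]
    | tmul a w =>
      have hw : w ∈ Submodule.span k (Set.range (KaehlerDifferential.D ℤ k)) := by
        rw [KaehlerDifferential.span_range_derivation]; trivial
      induction hw using Submodule.span_induction generalizing a with
      | mem x hx =>
        obtain ⟨b, rfl⟩ := hx
        simp [KaehlerDifferential.mapBaseChange_tmul, ← IsScalarTower.algebraMap_apply, mul_smul, smul_comm c]
      | zero => simp
      | add x y _ _ hx hy =>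
        rw [TensorProduct.tmul_add, TensorProduct.tmul_add, map_add, map_add, hx a, hy a, map_add, map_add, smul_add]
      | smul b x _ hx =>
        rw [show a ⊗ₜ[k] (b • x) = (b • a) ⊗ₜ[k] x from (TensorProduct.smul_tmul b a x).symm]
        exact hx (b • a)
  refine LinearMap.finrank_le_finrank_of_injective (f := ι.codRestrict (EGA41.imperfection ℤ k L) fun z => ?_)
    fun a b h => hι (congrArg Subtype.val h)
  rw [EGA41.imperfection, LinearMap.mem_ker]
  induction z using TensorProduct.induction_on with
  | zero => simp
  | add x y hx hy => rw [map_add, map_add, hx, hy, add_zero]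
  | tmul c w =>
    show KaehlerDifferential.mapBaseChange ℤ k L
      (TensorProduct.AlgebraTensorModule.cancelBaseChange k K L L Ω[k⁄ℤ] (c ⊗ₜ (w : K ⊗[k] Ω[k⁄ℤ]))) = 0
    rw [hcomp, LinearMap.mem_ker.1 w.2, map_zero, smul_zero]

end Groth.Agent.FieldExtLib
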