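import Groth.Agent.FieldExtLib.ResidueDiff
import Groth.Agent.FieldExtLib.Imperfection
import Groth.Agent.FieldExtLib.Cartier

/-!
The difference of embedding dimensions along a local homomorphism with finite residue extension, read off
from the differentials.
-/

set_option autoImplicit false
set_option linter.style.haveILetI false
universe u
open IsLocalRing TensorProduct

namespace Groth.Agent.FieldExtLib

variable {A B : Type u} [CommRing A] [IsLocalRing A] [CommRing B] [IsLocalRing B] [Algebra A B]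
  [IsLocalHom (algebraMap A B)]

theorem span_tmul_D_eq_top (L R : Type u) [CommRing L] [CommRing R] [Algebra R L] :
    Submodule.span L (Set.range fun a : R => (1 : L) ⊗ₜ[R] KaehlerDifferential.D ℤ R a) = ⊤ := by
  rw [eq_top_iff]
  rintro x -
  induction x with
  | zero => exact zero_mem _
  | add a b ha hb => exact add_mem ha hb
  | tmul l ω =>
    rw [show l ⊗ₜ[R] ω = l • ((1 : L) ⊗ₜ[R] ω) by rw [TensorProduct.smul_tmul', smul_eq_mul, mul_one]]
    refine Submodule.smul_mem _ l ?_
    have hω : ω ∈ Submodule.span R (Set.range (KaehlerDifferential.D ℤ R)) := by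
      rw [KaehlerDifferential.span_range_derivation]; trivial
    have key : Submodule.span R (Set.range (KaehlerDifferential.D ℤ R)) ≤
        ((Submodule.span L (Set.range fun a : R => (1 : L) ⊗ₜ[R] KaehlerDifferential.D ℤ R a)).restrictScalars R).comap
          (TensorProduct.mk R L Ω[R⁄ℤ] 1) :=
      Submodule.span_le.2 (by rintro _ ⟨a, rfl⟩; exact Submodule.subset_span ⟨a, rfl⟩)
    exact key hω

variable [Module.Finite (ResidueField A) (ResidueField B)]

/-- For a local homomorphism `A → B` in residue characteristic `p` with `p ∈ m_A²`,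
`dim m_A/m_A² - dim m_B/m_B²` is the index of `κ ⊗ Ω_A → κ ⊗ Ω_B`. -/
theorem cotangent_index (p : ℕ) [Fact p.Prime] (hp2 : (p : A) ∈ maximalIdeal A ^ 2)
    [IsNoetherianRing A] [IsNoetherianRing B]
    (ω : ResidueField B ⊗[A] Ω[A⁄ℤ] →ₗ[ResidueField B] ResidueField B ⊗[B] Ω[B⁄ℤ])
    (hω : ∀ a, ω ((1 : ResidueField B) ⊗ₜ[A] KaehlerDifferential.D ℤ A a) =
      (1 : ResidueField B) ⊗ₜ[B] KaehlerDifferential.D ℤ B (algebraMap A B a))
    [Module.Finite (ResidueField B) (LinearMap.ker ω)]
    [Module.Finite (ResidueField B) ((ResidueField B ⊗[B] Ω[B⁄ℤ]) ⧸ LinearMap.range ω)] :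
    (Module.finrank (ResidueField A) (CotangentSpace A) : ℤ) -
        Module.finrank (ResidueField B) (CotangentSpace B) =
      (Module.finrank (ResidueField B) (LinearMap.ker ω) : ℤ) -
        Module.finrank (ResidueField B) ((ResidueField B ⊗[B] Ω[B⁄ℤ]) ⧸ LinearMap.range ω) := by
  let K := ResidueField A
  let L := ResidueField B
  have hnon : maximalIdeal A ≤ (maximalIdeal B).comap (algebraMap A B) :=
    Ideal.map_le_iff_le_comap.1 (IsLocalRing.map_maximalIdeal_le (algebraMap A B))
  have hpB : (p : B) ∈ maximalIdeal B ^ 2 := by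
    rw [← map_natCast (algebraMap A B) p]
    exact Ideal.pow_right_mono (Ideal.map_le_iff_le_comap.2 hnon) 2
      (by rw [← Ideal.map_pow]; exact Ideal.mem_map_of_mem _ hp2)
  let f₃ : L ⊗[K] Ω[K⁄ℤ] →ₗ[L] Ω[L⁄ℤ] := KaehlerDifferential.mapBaseChange ℤ K L
  obtain ⟨eH⟩ := nonempty_h1_equiv_imperfection K L
  obtain ⟨hH, hHdim⟩ := finrank_h1Cotangent_eq K L
  haveI : Module.Finite L (LinearMap.ker f₃) := Module.Finite.equiv eH
  let coker₃ : (Ω[L⁄ℤ] ⧸ LinearMap.range f₃) ≃ₗ[L] Ω[L⁄K] :=
    (Submodule.quotEquivOfEq _ _ (KaehlerDifferential.exact_mapBaseChange_map ℤ K L).linearMap_ker_eq.symm).trans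
      ((KaehlerDifferential.map ℤ K L L).quotKerEquivOfSurjective (KaehlerDifferential.map_surjective ℤ K L))
  haveI : Module.Finite L (Ω[L⁄ℤ] ⧸ LinearMap.range f₃) := Module.Finite.equiv coker₃.symm
  have hindex₃ : Module.finrank L (LinearMap.ker f₃) = Module.finrank L (Ω[L⁄ℤ] ⧸ LinearMap.range f₃) := by
    rw [coker₃.finrank_eq, ← hHdim]
    exact eH.finrank_eq.symm
  have hcK : Function.Surjective (algebraMap A K) := residue_surjective
  have hcL : Function.Surjective (algebraMap B L) := residue_surjective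
  let uA : CotangentSpace A →ₗ[K] K ⊗[A] Ω[A⁄ℤ] := LinearMap.extendScalarsOfSurjective hcK (conormal A)
  let v₁ : CotangentSpace B →ₗ[L] L ⊗[B] Ω[B⁄ℤ] := LinearMap.extendScalarsOfSurjective hcL (conormal B)
  let can : L ⊗[K] (K ⊗[A] Ω[A⁄ℤ]) ≃ₗ[L] L ⊗[A] Ω[A⁄ℤ] :=
    TensorProduct.AlgebraTensorModule.cancelBaseChange A K L L Ω[A⁄ℤ]
  have hcan : ∀ a : A, can ((1 : L) ⊗ₜ[K] ((1 : K) ⊗ₜ[A] KaehlerDifferential.D ℤ A a)) =
      (1 : L) ⊗ₜ[A] KaehlerDifferential.D ℤ A a := fun a => by
    rw [TensorProduct.AlgebraTensorModule.cancelBaseChange_tmul, one_smul]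
  let u₁ : L ⊗[K] CotangentSpace A →ₗ[L] L ⊗[A] Ω[A⁄ℤ] := can.toLinearMap ∘ₗ uA.baseChange L
  let u₂ : L ⊗[A] Ω[A⁄ℤ] →ₗ[L] L ⊗[K] Ω[K⁄ℤ] :=
    (KaehlerDifferential.mapBaseChange ℤ A K).baseChange L ∘ₗ can.symm.toLinearMap
  let v₂ : L ⊗[B] Ω[B⁄ℤ] →ₗ[L] Ω[L⁄ℤ] := KaehlerDifferential.mapBaseChange ℤ B L
  have hu₁ : Function.Injective u₁ := by
    show Function.Injective (can ∘ uA.baseChange L)
    refine can.injective.comp ?_
    rw [LinearMap.baseChange_eq_ltensor]
    exact Module.Flat.lTensor_preserves_injective_linearMap _ (conormal_injective_of_mem A p hp2)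
  have hex : Function.Exact (uA.baseChange L) ((KaehlerDifferential.mapBaseChange ℤ A K).baseChange L) := by
    rw [LinearMap.baseChange_eq_ltensor, LinearMap.baseChange_eq_ltensor]
    exact Module.Flat.lTensor_exact L (f := uA) (g := KaehlerDifferential.mapBaseChange ℤ A K) (exact_conormal A)
  have hu : Function.Exact u₁ u₂ := fun z => by
    obtain ⟨z, rfl⟩ := can.surjective z
    show (KaehlerDifferential.mapBaseChange ℤ A K).baseChange L (can.symm (can z)) = 0 ↔ _
    rw [LinearEquiv.symm_apply_apply, hex z]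
    exact ⟨fun ⟨x, hx⟩ => ⟨x, congrArg can hx⟩, fun ⟨x, hx⟩ => ⟨x, can.injective hx⟩⟩
  have hu₂ : Function.Surjective u₂ := by
    show Function.Surjective ((KaehlerDifferential.mapBaseChange ℤ A K).baseChange L ∘ can.symm)
    refine Function.Surjective.comp ?_ can.symm.surjective
    rw [LinearMap.baseChange_eq_ltensor]
    exact LinearMap.lTensor_surjective L (KaehlerDifferential.mapBaseChange_surjective ℤ A K hcK)
  let ι : CotangentSpace A →ₗ[A] CotangentSpace B := Ideal.mapCotangent _ _ (Algebra.ofId A B) hnon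
  haveI : IsScalarTower A L (CotangentSpace B) := IsScalarTower.of_algebraMap_smul fun a z => by
    rw [← algebraMap_smul B a z, IsScalarTower.algebraMap_apply A B L, algebraMap_smul]
  letI : Module K (CotangentSpace B) := Module.compHom _ (algebraMap K L)
  haveI : IsScalarTower K L (CotangentSpace B) := IsScalarTower.of_algebraMap_smul fun _ _ => rfl
  haveI : IsScalarTower A K (CotangentSpace B) := IsScalarTower.of_algebraMap_smul fun a z => by
    show algebraMap K L (algebraMap A K a) • z = a • z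
    rw [← IsScalarTower.algebraMap_apply, algebraMap_smul]
  let f₁ : L ⊗[K] CotangentSpace A →ₗ[L] CotangentSpace B :=
    (LinearMap.extendScalarsOfSurjective hcK ι).liftBaseChange L
  have h₁ : ω ∘ₗ u₁ = v₁ ∘ₗ f₁ := by
    refine TensorProduct.AlgebraTensorModule.ext fun l z => ?_
    obtain ⟨x, rfl⟩ := (maximalIdeal A).toCotangent_surjective z
    rw [show l ⊗ₜ[K] (maximalIdeal A).toCotangent x = l • ((1 : L) ⊗ₜ[K] (maximalIdeal A).toCotangent x) by
      rw [TensorProduct.smul_tmul', smul_eq_mul, mul_one], map_smul, map_smul]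
    congr 1
    simp only [u₁, v₁, f₁, uA, LinearMap.comp_apply, LinearMap.baseChange_tmul, LinearMap.liftBaseChange_tmul,
      one_smul, LinearEquiv.coe_coe, LinearMap.extendScalarsOfSurjective_apply]
    rw [conormal_toCotangent, hcan, hω]
    show _ = conormal B ((maximalIdeal A).mapCotangent (maximalIdeal B) (Algebra.ofId A B) hnon _)
    rw [Ideal.mapCotangent_toCotangent, conormal_toCotangent]
    rfl
  have h₂ : f₃ ∘ₗ u₂ = v₂ ∘ₗ ω := by
    refine LinearMap.ext_on (span_tmul_D_eq_top L A) ?_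
    rintro _ ⟨a, rfl⟩
    simp only [u₂, v₂, f₃, LinearMap.comp_apply, LinearEquiv.coe_coe]
    rw [hω, ← hcan a, LinearEquiv.symm_apply_apply]
    simp only [LinearMap.baseChange_tmul, KaehlerDifferential.mapBaseChange_tmul, one_smul, KaehlerDifferential.map_D]
    rw [← IsScalarTower.algebraMap_apply A B L, ← IsScalarTower.algebraMap_apply A K L]
  have key := index_eq u₁ u₂ v₁ v₂ hu₁ hu hu₂ (conormal_injective_of_mem B p hpB) (exact_conormal B)
    (KaehlerDifferential.mapBaseChange_surjective ℤ B L hcL) f₁ ω f₃ h₁ h₂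
  rw [Module.finrank_baseChange, hindex₃, sub_self, sub_zero] at key
  exact key

end Groth.Agent.FieldExtLib
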