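import Mathlib
import Groth.Agent.FieldExtLib.Imperfection

/-!
Index formula for the comparison maps of `Ω` and `H¹(L)` of a square of field extensions:
injectivity of `K' ⊗ H¹(K/k) → H¹(K'/k)` and the two Jacobi–Zariski indices.
-/

set_option autoImplicit false
universe u v
open TensorProduct Algebra

namespace Groth.Agent.FieldExtLib

/-- The absolute connecting map is injective for fields. -/
theorem δ_int_injective (K L : Type u) [Field K] [Field L] [Algebra K L] :
    Function.Injective (H1Cotangent.δ ℤ K L) := by
  obtain _ | ⟨p, hp, hpk⟩ := CharP.exists' K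
  · haveI : CharZero L := charZero_of_injective_algebraMap (algebraMap K L).injective
    haveI : IsScalarTower ℚ K L := IsScalarTower.of_algebraMap_eq' (RingHom.ext_rat _ _)
    haveI : Algebra.FormallySmooth ℚ L := formallySmooth_field_of_perfectField ℚ L
    exact δ_injective (F := ℚ)
  · haveI := hp
    haveI : CharP L p := charP_of_injective_algebraMap (algebraMap K L).injective p
    letI := ZMod.algebra K p
    letI := ZMod.algebra L p
    haveI : IsScalarTower (ZMod p) K L := IsScalarTower.of_algebraMap_eq' (RingHom.ext_zmod _ _)
    haveI : Algebra.FormallySmooth (ZMod p) L := formallySmooth_of_isGeometricallyReduced isGeometricallyReduced_of_perfectField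
    exact δ_injective (F := ZMod p)

/-- Naturality of the connecting map in the top ring. -/
theorem δ_map_top (R : Type v) {S T T' : Type u} [CommRing R] [CommRing S] [CommRing T] [CommRing T']
    [Algebra R S] [Algebra R T] [Algebra R T'] [Algebra S T] [Algebra S T'] [Algebra T T']
    [IsScalarTower R S T] [IsScalarTower R S T'] [IsScalarTower S T T']
    (x : H1Cotangent S T) :
    H1Cotangent.δ R S T' (H1Cotangent.map S S T T' x) =
      TensorProduct.AlgebraTensorModule.cancelBaseChange S T T' T' _
        ((1 : T') ⊗ₜ[T] H1Cotangent.δ R S T x) := by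
  obtain ⟨x, hx⟩ := x
  obtain ⟨⟨y, hy⟩, rfl⟩ := Extension.Cotangent.mk_surjective x
  have key : ∀ z : (Generators.self S T).Ring,
      Generators.H1Cotangent.δAux R (Generators.self S T')
          (((Generators.self S T).defaultHom (Generators.self S T')).toAlgHom z) =
        TensorProduct.AlgebraTensorModule.cancelBaseChange S T T' T' _
          ((1 : T') ⊗ₜ[T] Generators.H1Cotangent.δAux R (Generators.self S T) z) := by
    intro z
    induction z using MvPolynomial.induction_on' with
    | monomial n r =>
      rw [Generators.Hom.toAlgHom_monomial]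
      have : r • n.prod (fun x1 x2 => ((Generators.self S T).defaultHom (Generators.self S T')).val x1 ^ x2) =
          MvPolynomial.monomial (n.mapDomain (algebraMap T T')) r := by
        rw [MvPolynomial.monomial_eq, MvPolynomial.smul_eq_C_mul, Finsupp.prod_mapDomain_index (fun _ => pow_zero _)
          (fun _ _ _ => pow_add _ _ _)]
        rfl
      rw [this, Generators.H1Cotangent.δAux_monomial, Generators.H1Cotangent.δAux_monomial,
        TensorProduct.AlgebraTensorModule.cancelBaseChange_tmul, Finsupp.prod_mapDomain_index (fun _ => pow_zero _)
          (fun _ _ _ => pow_add _ _ _)]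
      congr 1
      rw [Algebra.smul_def, mul_one, map_finsuppProd]
      exact Finsupp.prod_congr fun i _ => (map_pow _ _ _).symm
    | add a b ha hb => simp only [map_add, TensorProduct.tmul_add, ha, hb]
  exact (Generators.H1Cotangent.δ_eq_δAux _ _ _ _).trans
    ((key y).trans (by
      congr 1
      congr 1
      exact (Generators.H1Cotangent.δ_eq_δAux _ (Generators.self R S) ⟨y, hy⟩ hx).symm))

/-- `K' ⊗ H¹(K/k) → H¹(K'/k)` is injective for a tower of fields. -/
theorem liftBaseChange_h1_injective (k K K' : Type u) [Field k] [Field K] [Field K']
    [Algebra k K] [Algebra k K'] [Algebra K K'] [IsScalarTower k K K'] :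
    Function.Injective ((H1Cotangent.map k k K K').liftBaseChange K') := by
  let e := TensorProduct.AlgebraTensorModule.cancelBaseChange k K K' K' Ω[k⁄ℤ]
  have h : (H1Cotangent.δ ℤ k K') ∘ₗ (H1Cotangent.map k k K K').liftBaseChange K' =
      e.toLinearMap ∘ₗ (H1Cotangent.δ ℤ k K).baseChange K' := by
    ext x
    simp only [AlgebraTensorModule.curry_apply, TensorProduct.curry_apply, LinearMap.restrictScalars_apply,
      LinearMap.coe_comp, Function.comp_apply, LinearMap.liftBaseChange_tmul, one_smul, LinearEquiv.coe_coe,
      LinearMap.baseChange_tmul]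
    exact δ_map_top ℤ x
  have hinj : Function.Injective ((H1Cotangent.δ ℤ k K).baseChange K') :=
    Module.Flat.lTensor_preserves_injective_linearMap (M := K') _ (δ_int_injective k K)
  have := e.injective.comp hinj
  refine Function.Injective.of_comp (f := H1Cotangent.δ ℤ k K') ?_
  have h' := congrArg DFunLike.coe h
  simp only [LinearMap.coe_comp] at h'
  rw [h']
  exact this

end Groth.Agent.FieldExtLib
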